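import Cfsg.Agent.H545.EA.Stmts
import Cfsg.Agent.H189.FeitTits
import Cfsg.Agent.H915.LD

/-!
# S3499, V-ALT, `EA4`: spin representations of the alternating groups (helper729)
-/

set_option autoImplicit false

namespace Cfsg.Agent.H729.EA

open Module Cfsg Cfsg.Geo Cfsg.Agent.H189.AltSpinLow Cfsg.Agent.H915.LD Cfsg.Agent.H545.EA Cfsg.Agent.H419.EP
open scoped MatrixGroups commutatorElement

/-- the bound in characteristic `≠ 2, 5` -/
theorem spin_ne_five {k : Type} [Field k] [IsAlgClosed k] (h2 : (2 : k) ≠ 0) (h5 : (5 : k) ≠ 0) (r : ℕ) (hr : 10 ≤ r) :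
    SpinLow.{0, 0, 0} k r (16 * 4 ^ ((r - 10) / 5)) := by
  induction r using Nat.strong_induction_on with
  | _ r ih =>
    by_cases h15 : r < 15
    · have h1 : (r - 10) / 5 = 0 := Nat.div_eq_of_lt (by omega)
      rw [h1, pow_zero, mul_one]
      exact spin_mono (spin_ten h2 h5) hr
    · obtain ⟨j, rfl⟩ : ∃ j, r = j + 5 := ⟨r - 5, by omega⟩
      have h1 : (j + 5 - 10) / 5 = (j - 10) / 5 + 1 := by omega
      rw [h1, pow_succ, show 16 * (4 ^ ((j - 10) / 5) * 4) = 4 * (16 * 4 ^ ((j - 10) / 5)) by ring]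
      exact spin_add_five h2 h5 (by omega) (ih j (by omega) (by omega))

/-- the bound in characteristic `≠ 2, 3` -/
theorem spin_ne_three {k : Type} [Field k] [IsAlgClosed k] (h2 : (2 : k) ≠ 0) (h3 : (3 : k) ≠ 0) (r : ℕ) (hr : 9 ≤ r) :
    SpinLow.{0, 0, 0} k r (8 * 2 ^ ((r - 9) / 3)) := by
  induction r using Nat.strong_induction_on with
  | _ r ih =>
    by_cases h12 : r < 12
    · have h1 : (r - 9) / 3 = 0 := Nat.div_eq_of_lt (by omega)
      rw [h1, pow_zero, mul_one]
      exact spin_mono (spin_nine_b h2 h3) hr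
    · obtain ⟨j, rfl⟩ : ∃ j, r = j + 3 := ⟨r - 3, by omega⟩
      have h1 : (j + 3 - 9) / 3 = (j - 9) / 3 + 1 := by omega
      rw [h1, pow_succ, show 8 * (2 ^ ((j - 9) / 3) * 2) = 2 * (8 * 2 ^ ((j - 9) / 3)) by ring]
      exact spin_add_three h2 h3 (by omega) (ih j (by omega) (by omega))

theorem ea4 : EA4 := by
  classical
  intro F _ _ ι _ _ P c p hp hch hc hC he hZ
  obtain ⟨e⟩ := he
  obtain ⟨π, hπ⟩ : ∃ π : P →* alternatingGroup (Fin c), π = e.toMonoidHom.comp (toSoc P) := ⟨_, rfl⟩
  have hsurj : Function.Surjective π := by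
    rw [hπ]
    exact e.surjective.comp (toSoc_surjective P)
  have hkπ : π.ker = (scalars ι F).subgroupOf P := by rw [hπ]; exact ker_comp e
  have hK : π.ker ≤ Subgroup.center P := by rw [hkπ]; exact scalars_le_center
  have hperf : commutator P = ⊤ := hC.commutator_top
  have hcard : Nat.card π.ker ≤ 2 := S0892.result c (by omega) (by omega) (by omega) π.ker hK
    (by rw [hperf]; exact le_top) (QuotientGroup.quotientKerEquivOfSurjective π hsurj)
  have h1 : Nat.card π.ker = 2 := by
    have hpos : 0 < Nat.card π.ker := Nat.card_pos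
    have hne : Nat.card π.ker ≠ 1 := by
      intro h
      exact hZ (hkπ ▸ Subgroup.card_eq_one.1 h)
    omega
  rw [Nat.card_eq_two_iff' (1 : π.ker)] at h1
  obtain ⟨⟨z, hzk⟩, hz1, hzu⟩ := h1
  have hzne : z ≠ 1 := fun h2 => hz1 (Subtype.ext h2)
  have hker : ∀ x, π x = 1 ↔ x = 1 ∨ x = z := by
    intro x
    constructor
    · intro hx
      by_cases hx1 : x = 1
      · exact Or.inl hx1
      · right
        have h2 := hzu ⟨x, hx⟩ (fun h3 => hx1 (congrArg Subtype.val h3))
        exact congrArg Subtype.val h2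
    · rintro (rfl | rfl)
      · exact map_one π
      · exact hzk
  have hzz : z * z = 1 := by
    rcases (hker (z * z)).1 (by rw [map_mul, (hker z).2 (Or.inr rfl), mul_one]) with h2 | h2
    · exact h2
    · exact absurd (mul_eq_left.1 h2) hzne
  have hzc : ∀ x, x * z = z * x := fun x => Subgroup.mem_center_iff.1 (hK hzk) x
  -- the scalar
  have hι := hC.nonempty
  have hzs : z ∈ (scalars ι F).subgroupOf P := hkπ ▸ hzk
  rw [Subgroup.mem_subgroupOf, mem_scalars_iff] at hzs
  obtain ⟨d', hd⟩ := hzs
  obtain ⟨d, hdd'⟩ : ∃ d : F, d = (d' : F) := ⟨_, rfl⟩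
  rw [← hdd'] at hd
  have hdd : d * d = 1 := by
    have h2 := congrArg (fun y : P => ((y : GL ι F) : Matrix ι ι F)) hzz
    simp only [Subgroup.coe_mul, Units.val_mul, Subgroup.coe_one, Units.val_one] at h2
    rw [hd, smul_mul_assoc, mul_smul_comm, one_mul, smul_smul] at h2
    obtain ⟨i⟩ := hι
    have h3 := congrFun (congrFun h2 i) i
    simpa using h3
  have hd1 : d ≠ 1 := by
    rintro rfl
    apply hzne
    apply Subtype.ext
    apply Units.ext
    rw [hd, one_smul]
    rfl
  have hdm : d = -1 := by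
    have h2 : (d - 1) * (d + 1) = 0 := by linear_combination hdd
    rcases mul_eq_zero.1 h2 with h3 | h3
    · exact absurd (sub_eq_zero.1 h3) hd1
    · exact eq_neg_of_add_eq_zero_left h3
  have h20 : (2 : F) ≠ 0 := by
    intro h2
    apply hd1
    rw [hdm]
    linear_combination -h2
  have hcast : ∀ {r : ℕ}, r.Prime → p ≠ r → ((r : ℕ) : AlgebraicClosure F) ≠ 0 := by
    intro r hr hpr h0
    have h3 : ((r : ℕ) : F) = 0 := by
      apply (algebraMap F (AlgebraicClosure F)).injective
      rw [map_natCast, map_zero, h0]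
    rw [CharP.cast_eq_zero_iff F p] at h3
    exact hpr ((Nat.prime_dvd_prime_iff_eq hp hr).1 h3)
  have hp2 : p ≠ 2 := by
    rintro rfl
    apply h20
    exact_mod_cast CharP.cast_eq_zero F 2
  -- the cover
  have hcov : SporadicRecognition.AltCover.IsCover π z :=
    { z_ne := hzne
      z_mul := hzz
      z_comm := hzc
      surj := hsurj
      ker := hker
      nonsplit := by
        intro s hs
        have h2 : s.range = ⊤ := by
          rw [eq_top_iff, ← hperf, commutator_def, Subgroup.commutator_le]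
          intro x _ y _
          have hx : x * (s (π x))⁻¹ ∈ Subgroup.center P := hK (by
            rw [MonoidHom.mem_ker, map_mul, map_inv, hs, mul_inv_cancel])
          have hy : y * (s (π y))⁻¹ ∈ Subgroup.center P := hK (by
            rw [MonoidHom.mem_ker, map_mul, map_inv, hs, mul_inv_cancel])
          obtain ⟨a, ha⟩ : ∃ a, a = x * (s (π x))⁻¹ := ⟨_, rfl⟩
          obtain ⟨b, hb⟩ : ∃ b, b = y * (s (π y))⁻¹ := ⟨_, rfl⟩
          have hxa : x = a * s (π x) := by rw [ha, inv_mul_cancel_right]
          have hyb : y = b * s (π y) := by rw [hb, inv_mul_cancel_right]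
          rw [← ha, Subgroup.mem_center_iff] at hx
          rw [← hb, Subgroup.mem_center_iff] at hy
          have h3 : ⁅x, y⁆ = ⁅s (π x), s (π y)⁆ := by
            generalize s (π x) = u at hxa
            generalize s (π y) = v at hyb
            subst hxa hyb
            rw [commutatorElement_def, commutatorElement_def]
            have ca : ∀ g, a * g * a⁻¹ = g := fun g => by rw [← hx g, mul_inv_cancel_right]
            have cb : ∀ g, b * g * b⁻¹ = g := fun g => by rw [← hy g, mul_inv_cancel_right]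
            calc a * u * (b * v) * (a * u)⁻¹ * (b * v)⁻¹ = (a * (u * b * v * u⁻¹) * a⁻¹) * v⁻¹ * b⁻¹ := by group
              _ = u * b * v * u⁻¹ * v⁻¹ * b⁻¹ := by rw [ca]
              _ = b * (u * v * u⁻¹ * v⁻¹) * b⁻¹ := by rw [hy u]; group
              _ = u * v * u⁻¹ * v⁻¹ := cb _
          rw [h3]
          exact ⟨⁅π x, π y⁆, by rw [map_commutatorElement]⟩
        obtain ⟨x, hx⟩ : z ∈ s.range := by rw [h2]; trivial
        apply hzne
        have h3 := hs x
        rw [hx, (hker z).2 (Or.inr rfl)] at h3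
        rw [← hx, ← h3, map_one] }
  let K := SporRec.TwoAn.ofIsCover (n := c) (by omega) hcov
  -- the representation
  let φ : P →* End (AlgebraicClosure F) (ι → AlgebraicClosure F) :=
    { toFun := fun g => Matrix.toLin' (((g : GL ι F) : Matrix ι ι F).map (algebraMap F (AlgebraicClosure F)))
      map_one' := by
        rw [Subgroup.coe_one, Units.val_one, Matrix.map_one _ (map_zero _) (map_one _), Matrix.toLin'_one]
        rfl
      map_mul' := fun g h => by
        rw [Subgroup.coe_mul, Units.val_mul, Matrix.map_mul, Matrix.toLin'_mul]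
        rfl }
  have hφ : ∀ v, φ K.z v = -v := by
    intro v
    change Matrix.toLin' (((z : GL ι F) : Matrix ι ι F).map (algebraMap F (AlgebraicClosure F))) v = -v
    rw [hd, hdm, Matrix.toLin'_apply]
    have h3 : ((-1 : F) • (1 : Matrix ι ι F)).map (algebraMap F (AlgebraicClosure F)) = -1 := by
      ext i j
      by_cases hij : i = j
      · subst hij; simp
      · simp [hij]
    rw [h3, Matrix.neg_mulVec, Matrix.one_mulVec]
  have hn : finrank (AlgebraicClosure F) (ι → AlgebraicClosure F) = Fintype.card ι := by simp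
  have h2K : (2 : AlgebraicClosure F) ≠ 0 := by exact_mod_cast hcast Nat.prime_two hp2
  refine ⟨hp2, fun h5 => ?_, fun h5 => ?_⟩
  · have h5K : (5 : AlgebraicClosure F) ≠ 0 := by exact_mod_cast hcast (r := 5) (by norm_num) h5
    rw [← hn]
    exact spin_ne_five h2K h5K c hc P K _ φ hφ inferInstance
  · have h3K : (3 : AlgebraicClosure F) ≠ 0 := by exact_mod_cast hcast (r := 3) (by norm_num) (by omega)
    rw [← hn]
    exact spin_ne_three h2K h3K c (by omega) P K _ φ hφ inferInstance

end Cfsg.Agent.H729.EA
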